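import Groth.Agent.TorusBilin.Split
import Groth.Agent.GrpSchLib.MultTypeBC
import Groth.Agent.GrpSchLib.GeomIrr
import Groth.Agent.GrpSchLib.AntiAffine
import Groth.Agent.GrpSchLib.AntiAffineHom
import Groth.Agent.DSPtsLib.Basic
import Groth.Agent.FpqcDescLib.Group
import Mathlib.AlgebraicGeometry.Sites.Fpqc

/-! A central extension of a torus over a field is commutative. -/

universe u

open CategoryTheory CategoryTheory.Limits MonoidalCategory CartesianMonoidalCategory MonObj AlgebraicGeometry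
open Groth.Agent.DSPtsLib

namespace Groth.Agent.TorusBilin

theorem exists_split {k : Type u} [Field k] {S : Over (Spec (CommRingCat.of k))} [GrpObj S] (hS : Red.IsTorus S) :
    ∃ (K : Type u) (_ : Field K) (_ : IsAlgClosed K) (φ : k →+* K) (r : ℕ),
      Nonempty (Grp.mk (Red.bc (Spec.map (CommRingCat.ofHom φ)) S) ≅ Grp.mk (Tor K r)) := by
  obtain ⟨S', f, -, hsurj, -, hloc⟩ := hS
  obtain ⟨s', -⟩ := hsurj.surj (IsLocalRing.closedPoint k)
  obtain ⟨U, hU, r, ⟨i⟩⟩ := hloc s'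
  let x : (U : Scheme.{u}) := ⟨s', hU⟩
  let F := (U : Scheme.{u}).residueField x
  let c : Spec (CommRingCat.of (AlgebraicClosure F)) ⟶ (U : Scheme.{u}) :=
    Spec.map (CommRingCat.ofHom (algebraMap F (AlgebraicClosure F))) ≫ (U : Scheme.{u}).fromSpecResidueField x
  let φ : k →+* AlgebraicClosure F := (Spec.preimage (c ≫ U.ι ≫ f)).hom
  have hφ : Spec.map (CommRingCat.ofHom φ) = c ≫ U.ι ≫ f := Spec.map_preimage _
  refine ⟨AlgebraicClosure F, inferInstance, inferInstance, φ, r, ?_⟩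
  obtain ⟨e₁⟩ := GrpSchLib.MultTypeBC.bc_congr hφ S
  obtain ⟨e₂⟩ := GrpSchLib.MultTypeBC.bc_bc c (U.ι ≫ f) S
  obtain ⟨e₃⟩ := GrpSchLib.MultTypeBC.bc_iso c i
  obtain ⟨e₄⟩ := GrpSchLib.MultTypeBC.bc_DS c (Fin r → ℤ)
  obtain ⟨e₅⟩ := GrpSchLib.AffineHopf.nonempty_DS_iso (AlgebraicClosure F) (Fin r → ℤ)
  exact ⟨e₁ ≪≫ e₂.symm ≪≫ e₃ ≪≫ e₄ ≪≫ e₅.symm⟩

theorem theta_map {k : Scheme.{u}} {U : Scheme.{u}} (g : U ⟶ k) {Y : Over U} {A B : Over k} (a : Y ⟶ Red.bc g A)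
    (w : A ⟶ B) : theta g (a ≫ (Over.pullback g).map w) = theta g a ≫ w :=
  (Over.mapPullbackAdj g).homEquiv_naturality_right_symm a w

theorem theta_lift {k : Scheme.{u}} {U : Scheme.{u}} (g : U ⟶ k) {Y : Over U} {A B : Over k} (a : Y ⟶ Red.bc g A)
    (b : Y ⟶ Red.bc g B) :
    theta g (lift a b ≫ Functor.LaxMonoidal.μ (Over.pullback g) A B) = lift (theta g a) (theta g b) := by
  ext : 1
  · rw [← theta_map, lift_fst, Category.assoc, Functor.Monoidal.μ_fst, lift_fst]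
  · rw [← theta_map, lift_snd, Category.assoc, Functor.Monoidal.μ_snd, lift_snd]

variable {k : Type u} [Field k] {S H : Over (Spec (CommRingCat.of k))} [GrpObj S] [GrpObj H]

/-- A biadditive morphism from a torus is trivial; in particular the commutator of a torus. -/
theorem eq_one_of_isTorus (hS : Red.IsTorus S) (b : S ⊗ S ⟶ H)
    (hl : ∀ (X : Over (Spec (CommRingCat.of k))) (x x' y : X ⟶ S),
      lift (x * x') y ≫ b = (lift x y ≫ b) * (lift x' y ≫ b))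
    (hr : ∀ (X : Over (Spec (CommRingCat.of k))) (x y y' : X ⟶ S),
      lift x (y * y') ≫ b = (lift x y ≫ b) * (lift x y' ≫ b)) : b = 1 := by
  obtain ⟨K, _, _, φ, r, ⟨e⟩⟩ := exists_split hS
  let g := Spec.map (CommRingCat.ofHom φ)
  haveI := e.inv.hom.isMonHom_hom
  haveI : IsSeparated (Red.bc g H).hom := GrpSchLib.AntiAffine.isSeparated_grp _
  let b' : Tor K r ⊗ Tor K r ⟶ Red.bc g H :=
    (e.inv.hom.hom ⊗ₘ e.inv.hom.hom) ≫ Functor.LaxMonoidal.μ (Over.pullback g) S S ≫ (Over.pullback g).map b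
  have key : ∀ (X : Over (Spec (CommRingCat.of K))) (x y : X ⟶ Tor K r),
      theta g (lift x y ≫ b') = lift (theta g (x ≫ e.inv.hom.hom)) (theta g (y ≫ e.inv.hom.hom)) ≫ b := by
    intro X x y
    rw [← theta_lift, ← theta_map]
    simp only [b', lift_map_assoc, Category.assoc]
  have hb' : b' = 1 := by
    refine eq_one_of_bilinear b' (fun X x x' y => (theta_bijective g).injective ?_)
      (fun X x y y' => (theta_bijective g).injective ?_)
    · rw [theta_mul, key, key, key, ← hl, MonObj.mul_comp, theta_mul]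
    · rw [theta_mul, key, key, key, ← hr, MonObj.mul_comp, theta_mul]
  refine GrpSchLib.AntiAffine.eq_of_map_eq φ ?_
  haveI : IsIso e.inv.hom.hom := ((Grp.forget _).mapIso e).isIso_inv
  rw [← cancel_epi (Functor.LaxMonoidal.μ (Over.pullback g) S S), ← cancel_epi (e.inv.hom.hom ⊗ₘ e.inv.hom.hom)]
  refine hb'.trans ?_
  rw [Functor.map_one, MonObj.comp_one, MonObj.comp_one]

theorem comm_of_isTorus (hS : Red.IsTorus S) (X : Over (Spec (CommRingCat.of k))) (a b : X ⟶ S) :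
    a * b = b * a := by
  obtain ⟨K, _, _, φ, r, ⟨e⟩⟩ := exists_split hS
  let g := Spec.map (CommRingCat.ofHom φ)
  haveI := e.hom.hom.isMonHom_hom
  haveI : IsIso e.hom.hom.hom := ((Grp.forget _).mapIso e).isIso_hom
  haveI : IsSeparated (Tor K r).hom := GrpSchLib.AntiAffine.isSeparated_grp _
  have h : fst S S * snd S S = snd S S * fst S S := by
    refine GrpSchLib.AntiAffine.eq_of_map_eq φ ?_
    rw [← cancel_mono e.hom.hom.hom, Functor.map_mul, Functor.map_mul, MonObj.mul_comp, MonObj.mul_comp]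
    have := congrArg (lift ((Over.pullback g).map (fst S S) ≫ e.hom.hom.hom)
      ((Over.pullback g).map (snd S S) ≫ e.hom.hom.hom) ≫ ·) (comm_universal (K := K) (r := r))
    simpa only [MonObj.comp_mul, lift_fst, lift_snd] using this
  have := congrArg (lift a b ≫ ·) h
  simpa only [MonObj.comp_mul, lift_fst, lift_snd] using this

variable {E : Over (Spec (CommRingCat.of k))} [GrpObj E]

/-- A central extension of a torus is commutative. -/
theorem comm_of_central (hS : Red.IsTorus S) (q : E ⟶ S) [IsMonHom q] [Flat q.left] [Surjective q.left]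
    [QuasiCompact q.left]
    (hc : ∀ (X : Over (Spec (CommRingCat.of k))) (z x : X ⟶ E), z ≫ q = 1 → z * x = x * z)
    (X : Over (Spec (CommRingCat.of k))) (g h : X ⟶ E) : g * h = h * g := by
  let c : E ⊗ E ⟶ E := fst E E * snd E E * (fst E E)⁻¹ * (snd E E)⁻¹
  have hc' : ∀ (X : Over (Spec (CommRingCat.of k))) (x y : X ⟶ E), lift x y ≫ c = x * y * x⁻¹ * y⁻¹ := by
    intro X x y
    simp only [c, MonObj.comp_mul, GrpObj.comp_inv, lift_fst, lift_snd]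
  have hker : ∀ (X : Over (Spec (CommRingCat.of k))) (x y : X ⟶ E), (x * y * x⁻¹ * y⁻¹) ≫ q = 1 := by
    intro X x y
    simp only [MonObj.mul_comp, GrpObj.inv_comp]
    rw [comm_of_isTorus hS X (x ≫ q) (y ≫ q), mul_inv_cancel_right, mul_inv_cancel]
  let qq : E ⊗ E ⟶ S ⊗ S := q ⊗ₘ q
  have h1 : (@Flat ⊓ @Surjective ⊓ @QuasiCompact : MorphismProperty Scheme.{u}) q.left := ⟨⟨‹_›, ‹_›⟩, ‹_›⟩
  have hqq : (@Flat ⊓ @Surjective ⊓ @QuasiCompact : MorphismProperty Scheme.{u}) qq.left := by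
    simp only [qq, MonoidalCategory.tensorHom_def, Over.comp_left]
    exact MorphismProperty.comp_mem _ _ _
      (MorphismProperty.of_isPullback ((FpqcDescLib.isPullback_whiskerRight q E).map (Over.forget _)).flip h1)
      (MorphismProperty.of_isPullback ((FpqcDescLib.isPullback_whiskerLeft q S).map (Over.forget _)).flip h1)
  haveI : Flat qq.left := hqq.1.1
  haveI : Surjective qq.left := hqq.1.2
  haveI : QuasiCompact qq.left := hqq.2
  have hdesc : ∀ {Z : Scheme.{u}} (g₁ g₂ : Z ⟶ (E ⊗ E).left), g₁ ≫ qq.left = g₂ ≫ qq.left →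
      g₁ ≫ c.left = g₂ ≫ c.left := by
    intro Z g₁ g₂ hg
    let Z' : Over (Spec (CommRingCat.of k)) := Over.mk (g₁ ≫ (E ⊗ E).hom)
    let a₁ : Z' ⟶ E ⊗ E := Over.homMk g₁ rfl
    let a₂ : Z' ⟶ E ⊗ E := Over.homMk g₂ (by
      show g₂ ≫ _ = g₁ ≫ _
      rw [← Over.w qq, ← Category.assoc, ← Category.assoc, hg])
    have ha : a₁ ≫ qq = a₂ ≫ qq := Over.OverMorphism.ext hg
    suffices e : a₁ ≫ c = a₂ ≫ c from congrArg (fun m => m.left) e
    have e1 := congrArg (· ≫ fst S S) ha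
    have e2 := congrArg (· ≫ snd S S) ha
    simp only [qq, Category.assoc, tensorHom_fst, tensorHom_snd] at e1 e2
    rw [show a₁ = lift (a₁ ≫ fst E E) (a₁ ≫ snd E E) by ext <;> simp,
      show a₂ = lift (a₂ ≫ fst E E) (a₂ ≫ snd E E) by ext <;> simp, hc', hc']
    have hz₁ : (a₁ ≫ fst E E * (a₂ ≫ fst E E)⁻¹) ≫ q = 1 := by
      rw [MonObj.mul_comp, GrpObj.inv_comp, Category.assoc, Category.assoc, e1, mul_inv_cancel]
    have hz₂ : (a₁ ≫ snd E E * (a₂ ≫ snd E E)⁻¹) ≫ q = 1 := by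
      rw [MonObj.mul_comp, GrpObj.inv_comp, Category.assoc, Category.assoc, e2, mul_inv_cancel]
    generalize a₁ ≫ fst E E = x₁ at *
    generalize a₂ ≫ fst E E = x₂ at *
    generalize a₁ ≫ snd E E = y₁ at *
    generalize a₂ ≫ snd E E = y₂ at *
    obtain ⟨z, rfl⟩ : ∃ z, x₁ = z * x₂ := ⟨x₁ * x₂⁻¹, by rw [inv_mul_cancel_right]⟩
    obtain ⟨w, rfl⟩ : ∃ w, y₁ = w * y₂ := ⟨y₁ * y₂⁻¹, by rw [inv_mul_cancel_right]⟩
    rw [mul_inv_cancel_right] at hz₁ hz₂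
    have cz : ∀ t, z * t = t * z := fun t => hc _ z t hz₁
    have cw : ∀ t, w * t = t * w := fun t => hc _ w t hz₂
    calc (z * x₂) * (w * y₂) * (z * x₂)⁻¹ * (w * y₂)⁻¹
        = z * (x₂ * w) * y₂ * x₂⁻¹ * (z⁻¹ * (y₂⁻¹ * w⁻¹)) := by group
      _ = z * (w * x₂) * y₂ * x₂⁻¹ * (z⁻¹ * (y₂⁻¹ * w⁻¹)) := by rw [cw x₂]
      _ = z * (w * (x₂ * y₂ * x₂⁻¹)) * z⁻¹ * (y₂⁻¹ * w⁻¹) := by group
      _ = w * (x₂ * y₂ * x₂⁻¹) * y₂⁻¹ * w⁻¹ := by rw [cz, mul_inv_cancel_right, ← _root_.mul_assoc]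
      _ = x₂ * y₂ * x₂⁻¹ * y₂⁻¹ := by rw [_root_.mul_assoc w, cw, mul_inv_cancel_right]
  let bl : (S ⊗ S).left ⟶ E.left := EffectiveEpi.desc qq.left c.left fun g₁ g₂ hg => hdesc g₁ g₂ hg
  have hbl : qq.left ≫ bl = c.left := EffectiveEpi.fac _ _ _
  let b : S ⊗ S ⟶ E := Over.homMk bl (by rw [← cancel_epi qq.left, reassoc_of% hbl, Over.w, Over.w])
  have hb : qq ≫ b = c := Over.OverMorphism.ext hbl
  have hb' : ∀ (X : Over (Spec (CommRingCat.of k))) (x y : X ⟶ E),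
      lift (x ≫ q) (y ≫ q) ≫ b = x * y * x⁻¹ * y⁻¹ := by
    intro X x y
    rw [← hc', ← hb, lift_map_assoc]
  let q3 : (E ⊗ E) ⊗ E ⟶ (S ⊗ S) ⊗ S := qq ⊗ₘ q
  have hq3 : (@Flat ⊓ @Surjective ⊓ @QuasiCompact : MorphismProperty Scheme.{u}) q3.left := by
    simp only [q3, MonoidalCategory.tensorHom_def, Over.comp_left]
    exact MorphismProperty.comp_mem _ _ _
      (MorphismProperty.of_isPullback ((FpqcDescLib.isPullback_whiskerRight qq E).map (Over.forget _)).flip hqq)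
      (MorphismProperty.of_isPullback ((FpqcDescLib.isPullback_whiskerLeft q (S ⊗ S)).map (Over.forget _)).flip h1)
  haveI : Epi q3 := by
    haveI : Flat q3.left := hq3.1.1
    haveI : Surjective q3.left := hq3.1.2
    haveI : QuasiCompact q3.left := hq3.2
    haveI : Epi ((Over.forget _).map q3) := inferInstanceAs (Epi q3.left)
    exact (Over.forget _).epi_of_epi_map ‹_›
  let x₀ := fst (E ⊗ E) E ≫ fst E E
  let x₀' := fst (E ⊗ E) E ≫ snd E E
  let y₀ := snd (E ⊗ E) E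
  have hl : ∀ (X : Over (Spec (CommRingCat.of k))) (x x' y : X ⟶ S),
      lift (x * x') y ≫ b = (lift x y ≫ b) * (lift x' y ≫ b) := by
    intro X x x' y
    have e : lift (fst (S ⊗ S) S ≫ fst S S * fst (S ⊗ S) S ≫ snd S S) (snd (S ⊗ S) S) ≫ b =
        (lift (fst (S ⊗ S) S ≫ fst S S) (snd (S ⊗ S) S) ≫ b) *
          (lift (fst (S ⊗ S) S ≫ snd S S) (snd (S ⊗ S) S) ≫ b) := by
      rw [← cancel_epi q3]
      simp only [MonObj.comp_mul, comp_lift_assoc, q3, qq, tensorHom_fst_assoc, tensorHom_snd, tensorHom_fst]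
      simp only [← Category.assoc (fst (E ⊗ E) E)]
      rw [← MonObj.mul_comp, hb', hb', hb']
      show x₀ * x₀' * y₀ * (x₀ * x₀')⁻¹ * y₀⁻¹ = (x₀ * y₀ * x₀⁻¹ * y₀⁻¹) * (x₀' * y₀ * x₀'⁻¹ * y₀⁻¹)
      have cc := hc _ (x₀' * y₀ * x₀'⁻¹ * y₀⁻¹) (y₀ * x₀⁻¹ * y₀⁻¹) (hker _ _ _)
      calc x₀ * x₀' * y₀ * (x₀ * x₀')⁻¹ * y₀⁻¹
          = x₀ * ((x₀' * y₀ * x₀'⁻¹ * y₀⁻¹) * (y₀ * x₀⁻¹ * y₀⁻¹)) := by group
        _ = x₀ * ((y₀ * x₀⁻¹ * y₀⁻¹) * (x₀' * y₀ * x₀'⁻¹ * y₀⁻¹)) := by rw [cc]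
        _ = _ := by group
    have := congrArg (lift (lift x x') y ≫ ·) e
    simpa only [MonObj.comp_mul, comp_lift_assoc, lift_fst_assoc, lift_snd, lift_fst] using this
  have hr : ∀ (X : Over (Spec (CommRingCat.of k))) (x y y' : X ⟶ S),
      lift x (y * y') ≫ b = (lift x y ≫ b) * (lift x y' ≫ b) := by
    intro X x y y'
    have e : lift (snd (S ⊗ S) S) (fst (S ⊗ S) S ≫ fst S S * fst (S ⊗ S) S ≫ snd S S) ≫ b =
        (lift (snd (S ⊗ S) S) (fst (S ⊗ S) S ≫ fst S S) ≫ b) *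
          (lift (snd (S ⊗ S) S) (fst (S ⊗ S) S ≫ snd S S) ≫ b) := by
      rw [← cancel_epi q3]
      simp only [MonObj.comp_mul, comp_lift_assoc, q3, qq, tensorHom_fst_assoc, tensorHom_snd, tensorHom_fst]
      simp only [← Category.assoc (fst (E ⊗ E) E)]
      rw [← MonObj.mul_comp, hb', hb', hb']
      show y₀ * (x₀ * x₀') * y₀⁻¹ * (x₀ * x₀')⁻¹ = (y₀ * x₀ * y₀⁻¹ * x₀⁻¹) * (y₀ * x₀' * y₀⁻¹ * x₀'⁻¹)
      have cc := hc _ (y₀ * x₀' * y₀⁻¹ * x₀'⁻¹) x₀⁻¹ (hker _ _ _)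
      calc y₀ * (x₀ * x₀') * y₀⁻¹ * (x₀ * x₀')⁻¹
          = y₀ * x₀ * y₀⁻¹ * ((y₀ * x₀' * y₀⁻¹ * x₀'⁻¹) * x₀⁻¹) := by group
        _ = y₀ * x₀ * y₀⁻¹ * (x₀⁻¹ * (y₀ * x₀' * y₀⁻¹ * x₀'⁻¹)) := by rw [cc]
        _ = _ := by group
    have := congrArg (lift (lift y y') x ≫ ·) e
    simpa only [MonObj.comp_mul, comp_lift_assoc, lift_fst_assoc, lift_snd, lift_fst] using this
  have hb1 := eq_one_of_isTorus hS b hl hr
  have := hb' X g h
  rw [hb1, MonObj.comp_one] at this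
  exact mul_inv_eq_iff_eq_mul.mp (mul_inv_eq_one.mp this.symm)

end Groth.Agent.TorusBilin
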