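import Groth.Agent.TorusBilin.Split
import Mathlib.RingTheory.Coalgebra.GroupLike
import Mathlib.RingTheory.Bialgebra.GroupLike
import Mathlib.RingTheory.Noetherian.Orzech

/-! Homomorphisms of split tori as maps of character groups. -/

universe u

open CategoryTheory CategoryTheory.Limits MonoidalCategory CartesianMonoidalCategory MonObj AlgebraicGeometry
open TensorProduct WithConv Groth.Agent.GrpSchLib.AffineHopf

namespace Groth.Agent.TorusBilin

/-- Every bialgebra map of group algebras comes from a map of groups. -/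
theorem exists_addHom {k : Type u} [Field k] {a b : ℕ} (f : Coord k a →ₐc[k] Coord k b) :
    ∃ φ : (Fin a → ℤ) →+ (Fin b → ℤ), (f : Coord k a →ₐ[k] Coord k b) =
      MonoidAlgebra.mapDomainAlgHom k k φ.toMultiplicative := by
  classical
  have hs : ∀ m : Multiplicative (Fin a → ℤ), ∃ n, f (MonoidAlgebra.single m 1) = MonoidAlgebra.single n 1 := by
    intro m
    have hg : IsGroupLikeElem k (f (MonoidAlgebra.single m 1)) :=
      (show IsGroupLikeElem k (MonoidAlgebra.single m (1 : k)) from ⟨by simp, by simp⟩).map f
    by_contra hne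
    push Not at hne
    let G := {z : Coord k b | IsGroupLikeElem k z}
    have hli : LinearIndepOn k id G := linearIndepOn_isGroupLikeElem
    let S' : Set (Coord k b) := Set.range fun n => MonoidAlgebra.single n (1 : k)
    have hS' : S' ⊆ G := by rintro _ ⟨n, rfl⟩; exact ⟨by simp, by simp⟩
    have hnot : f (MonoidAlgebra.single m 1) ∉ S' := fun ⟨n, e⟩ => hne n e.symm
    have hins := hli.mono (Set.insert_subset hg hS' : insert (f (MonoidAlgebra.single m 1)) S' ⊆ G)
    have hout := ((linearIndepOn_insert hnot).mp hins).2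
    rw [Set.image_id] at hout
    refine hout ?_
    have : ∀ z : Coord k b, z ∈ Submodule.span k S' := fun z => by
      induction z using MonoidAlgebra.induction_on with
      | of g => exact Submodule.subset_span ⟨g, rfl⟩
      | add x y hx hy => exact add_mem hx hy
      | smul r x hx => exact Submodule.smul_mem _ r hx
    exact this _
  choose n hn using hs
  have hinj : Function.Injective fun g : Multiplicative (Fin b → ℤ) => (MonoidAlgebra.single g 1 : Coord k b) :=
    MonoidAlgebra.of_injective
  let φ : Multiplicative (Fin a → ℤ) →* Multiplicative (Fin b → ℤ) :=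
    MonoidHom.mk' n fun x y => hinj (by
      show MonoidAlgebra.single (n (x * y)) (1 : k) = MonoidAlgebra.single (n x * n y) 1
      have h := map_mul f (MonoidAlgebra.single x (1 : k)) (MonoidAlgebra.single y 1)
      rw [MonoidAlgebra.single_mul_single, _root_.mul_one, hn, hn, hn, MonoidAlgebra.single_mul_single,
        _root_.mul_one] at h
      exact h)
  exact ⟨AddMonoidHom.toMultiplicative.symm φ, MonoidAlgebra.algHom_ext (fun m => by
    show f (MonoidAlgebra.single m 1) = _
    rw [hn, MonoidAlgebra.mapDomainAlgHom_apply, MonoidAlgebra.mapDomain_single]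
    rfl) (by ext)⟩

theorem coord_single_eq_one {k : Type u} [Field k] {a : ℕ} {R : Type u} [CommRing R] [Algebra k R]
    (f : Coord k a →ₐ[k] R) (h : spMap f = 1) (m : Multiplicative (Fin a → ℤ)) :
    f (MonoidAlgebra.single m 1) = 1 := by
  have h' : toConv f = 1 := Spec.mapMulEquiv.injective ((spMap_eq_mapMulEquiv f).symm.trans (h.trans (map_one _).symm))
  rw [show f = (toConv f).ofConv from rfl, h', AlgHom.convOne_apply]
  simp

/-- A monomorphism between split tori of the same rank is an isomorphism. -/
theorem isIso_of_mono {k : Type u} [Field k] {r : ℕ} (f : Tor k r ⟶ Tor k r) [IsMonHom f] [Mono f] : IsIso f := by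
  classical
  obtain ⟨F, hF⟩ := exists_bialgHom f
  obtain ⟨φ, hφ⟩ := exists_addHom F
  let N : AddSubgroup (Fin r → ℤ) := φ.range
  let C := (Fin r → ℤ) ⧸ N
  let R := MonoidAlgebra k (Multiplicative C)
  let pr : Coord k r →ₐ[k] R := MonoidAlgebra.mapDomainAlgHom k k (QuotientAddGroup.mk' N).toMultiplicative
  have h1 : spMap pr ≫ f = 1 := by
    rw [hF, spMap_comp, spMap_eq_mapMulEquiv, ← map_one (Spec.mapMulEquiv (R := k) (S := Coord k r) (T := R))]
    congr 1
    apply WithConv.ofConv_injective
    refine MonoidAlgebra.algHom_ext (fun v => ?_) (by ext)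
    show pr ((F : Coord k r →ₐ[k] Coord k r) (MonoidAlgebra.single (Multiplicative.ofAdd (Multiplicative.toAdd v)) 1)) = _
    have hFs : (F : Coord k r →ₐ[k] Coord k r) (MonoidAlgebra.single (Multiplicative.ofAdd (Multiplicative.toAdd v)) 1) =
        MonoidAlgebra.single (Multiplicative.ofAdd (φ (Multiplicative.toAdd v))) 1 := by
      rw [hφ, MonoidAlgebra.mapDomainAlgHom_apply, MonoidAlgebra.mapDomain_single]
      rfl
    rw [hFs, MonoidAlgebra.mapDomainAlgHom_apply, MonoidAlgebra.mapDomain_single, AlgHom.convOne_apply]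
    show MonoidAlgebra.single (Multiplicative.ofAdd ((φ (Multiplicative.toAdd v) : Fin r → ℤ) : C)) (1 : k) = _
    rw [(QuotientAddGroup.eq_zero_iff (φ (Multiplicative.toAdd v))).mpr (AddMonoidHom.mem_range.mpr ⟨_, rfl⟩)]
    simp
    exact MonoidAlgebra.one_def.symm
  have h2 : spMap pr = 1 := by rw [← cancel_mono f, h1, MonObj.one_comp]
  have hsurj : Function.Surjective φ := fun m => by
    have h3 := coord_single_eq_one pr h2 (Multiplicative.ofAdd m)
    rw [MonoidAlgebra.mapDomainAlgHom_apply, MonoidAlgebra.mapDomain_single, MonoidAlgebra.one_def] at h3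
    exact AddMonoidHom.mem_range.mp ((QuotientAddGroup.eq_zero_iff m).mp
      (Multiplicative.ofAdd.injective (MonoidAlgebra.of_injective h3)))
  let e : (Fin r → ℤ) ≃+ (Fin r → ℤ) := AddEquiv.ofBijective φ
    ⟨OrzechProperty.injective_of_surjective_endomorphism φ.toIntLinearMap hsurj, hsurj⟩
  let G : Coord k r →ₐ[k] Coord k r := MonoidAlgebra.mapDomainAlgHom k k e.symm.toAddMonoidHom.toMultiplicative
  refine ⟨spMap G, ?_, ?_⟩
  · rw [hF, spMap_comp, ← spMap_id]
    congr 1
    refine MonoidAlgebra.algHom_ext (fun v => ?_) (by ext)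
    rw [hφ]
    show MonoidAlgebra.mapDomain _ (MonoidAlgebra.mapDomain _ (MonoidAlgebra.single v (1 : k))) = _
    rw [MonoidAlgebra.mapDomain_single, MonoidAlgebra.mapDomain_single]
    show MonoidAlgebra.single (Multiplicative.ofAdd (e (e.symm (Multiplicative.toAdd v)))) (1 : k) = _
    rw [e.apply_symm_apply]
    rfl
  · rw [hF, spMap_comp, ← spMap_id]
    congr 1
    refine MonoidAlgebra.algHom_ext (fun v => ?_) (by ext)
    rw [hφ]
    show MonoidAlgebra.mapDomain _ (MonoidAlgebra.mapDomain _ (MonoidAlgebra.single v (1 : k))) = _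
    rw [MonoidAlgebra.mapDomain_single, MonoidAlgebra.mapDomain_single]
    show MonoidAlgebra.single (Multiplicative.ofAdd (e.symm (e (Multiplicative.toAdd v)))) (1 : k) = _
    rw [e.symm_apply_apply]
    rfl

end Groth.Agent.TorusBilin
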