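import Groth.Agent.TorusBilin.Chars
import Groth.Agent.GrpSchLib.AffineHopf
import Mathlib.AlgebraicGeometry.Pullbacks
import Mathlib.AlgebraicGeometry.Morphisms.ClosedImmersion
import Mathlib.RingTheory.HopfAlgebra.MonoidAlgebra
import Mathlib.CategoryTheory.Monoidal.Cartesian.Grp

/-! Biadditive morphisms on a split torus over an algebraically closed field are trivial. -/

universe u

open CategoryTheory CategoryTheory.Limits MonoidalCategory CartesianMonoidalCategory MonObj AlgebraicGeometry
open TensorProduct WithConv Groth.Agent.GrpSchLib.AffineHopf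

namespace Groth.Agent.TorusBilin

/-- Morphisms to a separated target agreeing on a separating family of points are equal. -/
theorem eq_of_jointly_injective {B : Type u} [CommRing B] {H S : Scheme.{u}} (π : H ⟶ S) [IsSeparated π]
    (u v : Spec (CommRingCat.of B) ⟶ H) (h : u ≫ π = v ≫ π) {L : Type u} [CommRing L] {I : Type*}
    (χ : I → B →+* L) (hχ : ∀ b, (∀ i, χ i b = 0) → b = 0)
    (huv : ∀ i, Spec.map (CommRingCat.ofHom (χ i)) ≫ u = Spec.map (CommRingCat.ofHom (χ i)) ≫ v) : u = v := by
  let w := pullback.lift u v h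
  let e := pullback.snd (pullback.diagonal π) w
  haveI : IsClosedImmersion (pullback.diagonal π) := IsSeparated.isClosedImmersion_diagonal
  haveI : IsClosedImmersion e := MorphismProperty.pullback_snd _ _ ‹_›
  have hfac : ∀ i, ∃ l : Spec (CommRingCat.of L) ⟶ pullback (pullback.diagonal π) w,
      l ≫ e = Spec.map (CommRingCat.ofHom (χ i)) := fun i =>
    ⟨pullback.lift (Spec.map (CommRingCat.ofHom (χ i)) ≫ u) (Spec.map (CommRingCat.ofHom (χ i))) (by
      apply pullback.hom_ext
      · simp only [w, Category.assoc, pullback.diagonal_fst, Category.comp_id, pullback.lift_fst]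
      · simp only [w, Category.assoc, pullback.diagonal_snd, Category.comp_id, pullback.lift_snd, huv i]), pullback.lift_snd _ _ _⟩
  have hinj : Function.Injective e.appTop := by
    rw [injective_iff_map_eq_zero]
    intro s hs
    apply (ConcreteCategory.bijective_of_isIso (Scheme.ΓSpecIso (CommRingCat.of B)).hom).1
    rw [map_zero]
    refine hχ _ fun i => ?_
    obtain ⟨l, hl⟩ := hfac i
    have h0 : (Spec.map (CommRingCat.ofHom (χ i))).appTop s = 0 := by
      rw [← hl, Scheme.Hom.comp_appTop]
      show l.appTop (e.appTop s) = 0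
      rw [hs, map_zero]
    have h1 := congrArg (fun φ => (ConcreteCategory.hom φ) s)
      (Scheme.ΓSpecIso_naturality (CommRingCat.ofHom (χ i)))
    change (Scheme.ΓSpecIso (CommRingCat.of L)).hom ((Spec.map (CommRingCat.ofHom (χ i))).appTop s) =
      χ i ((Scheme.ΓSpecIso (CommRingCat.of B)).hom s) at h1
    rw [← h1, h0, map_zero]
  haveI : IsIso e := IsClosedImmersion.isIso_of_injective_of_isAffine hinj
  have h1 := congrArg (· ≫ pullback.fst _ _) (pullback.condition (f := pullback.diagonal π) (g := w))
  have h2 := congrArg (· ≫ pullback.snd _ _) (pullback.condition (f := pullback.diagonal π) (g := w))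
  simp only [Category.assoc, pullback.diagonal_fst, pullback.diagonal_snd, Category.comp_id, w,
    pullback.lift_fst, pullback.lift_snd] at h1 h2
  exact (cancel_epi e).1 (h1.symm.trans h2)

variable {K : Type u} [Field K] {r : ℕ}

variable (K r) in
/-- The split torus. -/
noncomputable abbrev Tor : Over (Spec (CommRingCat.of K)) := sp K (Coord K r)

theorem pt_mul (x y : Fin r → Kˣ) :
    spMap (charAlg (x * y)) = spMap (charAlg x) * spMap (charAlg y) := by
  rw [spMap_mul]
  congr 1
  refine MonoidAlgebra.algHom_ext (fun m => ?_) (by ext)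
  rw [AlgHom.convMul_apply, MonoidAlgebra.comul_single, charAlg_single]
  simp [charAlg_single, Finset.prod_mul_distrib, mul_zpow]

variable (K r) in
/-- The rational points of the split torus. -/
noncomputable def pts : (Fin r → Kˣ) →* (sp K K ⟶ Tor K r) :=
  { toFun := fun x => spMap (charAlg x)
    map_one' := by
      have h := pt_mul (K := K) (1 : Fin r → Kˣ) 1
      rw [_root_.mul_one] at h
      letI : Group (sp K K ⟶ Tor K r) := Hom.group
      exact (left_eq_mul.mp h : (spMap (charAlg (1 : Fin r → Kˣ)) : sp K K ⟶ Tor K r) = 1)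
    map_mul' := pt_mul }

theorem pts_surjective : Function.Surjective (pts K r) := fun p => by
  obtain ⟨f, rfl⟩ := exists_eq_spMap p
  obtain ⟨x, rfl⟩ := exists_charAlg_eq f
  exact ⟨x, rfl⟩

/-- The structure map to the rational point. -/
noncomputable def toPt : Tor K r ⟶ sp K K := spMap (Algebra.ofId K (Coord K r))

theorem pt_comp_toPt (p : sp K K ⟶ Tor K r) : p ≫ toPt = 𝟙 _ := by
  obtain ⟨f, rfl⟩ := exists_eq_spMap p
  rw [toPt, spMap_comp, ← spMap_id]
  congr 1
  exact Subsingleton.elim _ _

variable [IsAlgClosed K] {H : Over (Spec (CommRingCat.of K))} [IsSeparated H.hom]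

theorem ext_torsion (u v : Tor K r ⟶ H)
    (h : ∀ x : Fin r → Kˣ, (∃ n, 0 < n ∧ x ^ n = 1) → pts K r x ≫ u = pts K r x ≫ v) : u = v := by
  refine Over.OverMorphism.ext (eq_of_jointly_injective H.hom u.left v.left ((Over.w u).trans (Over.w v).symm)
    (fun x : {x : Fin r → Kˣ // ∃ n, 0 < n ∧ x ^ n = 1} => (charAlg x.1).toRingHom) ?_ ?_)
  · exact fun b hb => eq_zero_of_torsion b fun x hx => hb ⟨x, hx⟩
  · exact fun x => congrArg (fun m => m.left) (h x.1 x.2)

theorem ext_pairs (u v : Tor K r ⊗ Tor K r ⟶ H)
    (h : ∀ p q : sp K K ⟶ Tor K r, lift p q ≫ u = lift p q ≫ v) : u = v := by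
  let e := pullbackSpecIso K (Coord K r) (Coord K r)
  refine Over.OverMorphism.ext ((cancel_epi e.inv).1 ?_)
  refine eq_of_jointly_injective H.hom (e.inv ≫ u.left) (e.inv ≫ v.left)
    ((Category.assoc _ _ _).trans ((congrArg (e.inv ≫ ·) ((Over.w u).trans (Over.w v).symm)).trans (Category.assoc _ _ _).symm))
    (fun z : (Fin r → Kˣ) × (Fin r → Kˣ) =>
      (Algebra.TensorProduct.productMap (charAlg z.1) (charAlg z.2)).toRingHom) ?_ ?_
  · intro b hb
    exact eq_zero_of_pairs charAlg charAlg
      (fun c hc => eq_zero_of_torsion c fun x _ => hc x) (fun c hc => eq_zero_of_torsion c fun x _ => hc x)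
      b fun i j => hb (i, j)
  · rintro ⟨x, y⟩
    have hl : Spec.map (CommRingCat.ofHom (Algebra.TensorProduct.productMap (charAlg x) (charAlg y)).toRingHom) ≫
        e.inv = (lift (pts K r x) (pts K r y)).left := by
      refine pullback.hom_ext ?_ ?_
      · rw [Category.assoc]
        refine Eq.trans ?_ (congrArg (fun m => m.left) (lift_fst (pts K r x) (pts K r y))).symm
        refine (congrArg (Spec.map _ ≫ ·) (pullbackSpecIso_inv_fst K (Coord K r) (Coord K r))).trans ?_
        rw [← Spec.map_comp]
        refine congrArg Spec.map (CommRingCat.hom_ext (RingHom.ext fun c => ?_))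
        exact Algebra.TensorProduct.productMap_left_apply _ _ c
      · rw [Category.assoc]
        refine Eq.trans ?_ (congrArg (fun m => m.left) (lift_snd (pts K r x) (pts K r y))).symm
        refine (congrArg (Spec.map _ ≫ ·) (pullbackSpecIso_inv_snd K (Coord K r) (Coord K r))).trans ?_
        rw [← Spec.map_comp]
        refine congrArg Spec.map (CommRingCat.hom_ext (RingHom.ext fun c => ?_))
        exact Algebra.TensorProduct.productMap_right_apply _ _ c
    rw [reassoc_of% hl, reassoc_of% hl]
    exact congrArg (fun m => m.left) (h (pts K r x) (pts K r y))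

/-- Commutativity. -/
theorem comm_universal [IsSeparated (Tor K r).hom] :
    fst (Tor K r) (Tor K r) * snd _ _ = snd (Tor K r) (Tor K r) * fst _ _ := by
  refine ext_pairs _ _ fun p q => ?_
  obtain ⟨x, rfl⟩ := pts_surjective p
  obtain ⟨y, rfl⟩ := pts_surjective q
  simp only [MonObj.comp_mul, lift_fst, lift_snd]
  rw [← map_mul, ← map_mul, mul_comm]

/-- A biadditive morphism is trivial. -/
theorem eq_one_of_bilinear [GrpObj H] (b : Tor K r ⊗ Tor K r ⟶ H)
    (hl : ∀ (X : Over (Spec (CommRingCat.of K))) (x x' y : X ⟶ Tor K r),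
      lift (x * x') y ≫ b = (lift x y ≫ b) * (lift x' y ≫ b))
    (hr : ∀ (X : Over (Spec (CommRingCat.of K))) (x y y' : X ⟶ Tor K r),
      lift x (y * y') ≫ b = (lift x y ≫ b) * (lift x y' ≫ b)) : b = 1 := by
  refine ext_pairs _ _ fun p q => ?_
  rw [MonObj.comp_one]
  let u : Tor K r ⟶ H := lift (𝟙 _) (toPt ≫ q) ≫ b
  have hu : ∀ p, p ≫ u = lift p q ≫ b := fun p => by
    simp only [u, comp_lift_assoc, Category.comp_id, ← Category.assoc p toPt, pt_comp_toPt, Category.id_comp]
  have : u = 1 := by
    refine ext_torsion _ _ fun x ⟨n, hn, hx⟩ => ?_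
    rw [MonObj.comp_one, hu]
    obtain ⟨y, rfl⟩ := pts_surjective q
    choose z hz using fun i => IsAlgClosed.exists_pow_nat_eq ((y i : Kˣ) : K) hn
    let z' : Fin r → Kˣ := fun i => Units.mk0 (z i) fun h0 => (y i).ne_zero (by
      rw [← hz i, h0, zero_pow hn.ne'])
    have hy : y = z' ^ n := funext fun i => Units.ext (by simp [z', hz i])
    let fl : (sp K K ⟶ Tor K r) →* (sp K K ⟶ H) :=
      MonoidHom.mk' (fun a => lift a (pts K r z') ≫ b) fun a a' => hl _ a a' _
    let fr : (sp K K ⟶ Tor K r) →* (sp K K ⟶ H) :=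
      MonoidHom.mk' (fun a => lift (pts K r x) a ≫ b) fun a a' => hr _ _ a a'
    show fr (pts K r y) = 1
    rw [hy, map_pow, map_pow]
    show fl (pts K r x) ^ n = 1
    rw [← map_pow, ← map_pow, hx, map_one, map_one]
  rw [← hu, this, MonObj.comp_one]

end Groth.Agent.TorusBilin
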