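import Mathlib.Algebra.MvPolynomial.Funext
import Mathlib.Algebra.MonoidAlgebra.Basic
import Mathlib.RingTheory.RootsOfUnity.AlgebraicallyClosed
import Mathlib.RingTheory.TensorProduct.Maps
import Mathlib.Algebra.Group.TypeTags.Basic
import Mathlib.FieldTheory.IsAlgClosed.Basic
import Mathlib.Data.Nat.Prime.Infinite
import Mathlib.LinearAlgebra.Dimension.Free

/-! Characters of finite order separate the coordinate ring of a split torus. -/

universe u

open TensorProduct

namespace Groth.Agent.TorusBilin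

variable {K : Type u} [Field K] {r : ℕ}

/-- The character of `ℤ^r` attached to units. -/
noncomputable def charHom (x : Fin r → Kˣ) : Multiplicative (Fin r → ℤ) →* K where
  toFun m := ((∏ i, x i ^ m.toAdd i : Kˣ) : K)
  map_one' := by simp
  map_mul' a b := by simp [Finset.prod_mul_distrib, zpow_add]

variable (K r) in
/-- The coordinate ring of the split torus. -/
abbrev Coord : Type u := MonoidAlgebra K (Multiplicative (Fin r → ℤ))

/-- The point of the split torus attached to units. -/
noncomputable def charAlg (x : Fin r → Kˣ) : Coord K r →ₐ[K] K :=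
  MonoidAlgebra.lift K K _ (charHom x)

theorem charAlg_single (x : Fin r → Kˣ) (m : Multiplicative (Fin r → ℤ)) :
    charAlg x (MonoidAlgebra.single m 1) = ((∏ i, x i ^ m.toAdd i : Kˣ) : K) := by
  rw [charAlg, MonoidAlgebra.lift_single, one_smul]
  rfl

theorem exists_charAlg_eq (f : Coord K r →ₐ[K] K) : ∃ x, f = charAlg x := by
  let F : Multiplicative (Fin r → ℤ) →* K := (MonoidAlgebra.lift K K _).symm f
  let x : Fin r → Kˣ := fun i => (F.toHomUnits) (Multiplicative.ofAdd (Pi.single i 1))
  refine ⟨x, (MonoidAlgebra.lift K K _).symm.injective ?_⟩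
  rw [charAlg, Equiv.symm_apply_apply]
  refine MonoidHom.ext fun m => ?_
  show F m = ((∏ i, x i ^ m.toAdd i : Kˣ) : K)
  rw [← MonoidHom.coe_toHomUnits F]
  congr 1
  simp only [x, ← map_zpow, ← map_prod]
  congr 1
  apply Multiplicative.toAdd.injective
  rw [toAdd_prod]
  ext j
  simp [Finset.sum_apply, Pi.single_apply]

theorem infinite_torsion [IsAlgClosed K] : {z : Kˣ | ∃ n, 0 < n ∧ z ^ n = 1}.Infinite := by
  intro hfin
  obtain ⟨l, hl, hlp⟩ := Nat.exists_infinite_primes (hfin.toFinset.card + ringChar K + 1)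
  haveI : NeZero (l : K) := ⟨fun h => by
    have h2 : ringChar K ∣ l := ringChar.dvd h
    rcases hlp.eq_one_or_self_of_dvd _ h2 with h3 | h3
    · exact CharP.ringChar_ne_one h3
    · omega⟩
  haveI : NeZero l := ⟨hlp.ne_zero⟩
  obtain ⟨⟨ζ, hζ⟩, -⟩ := (inferInstance : HasEnoughRootsOfUnity K l)
  have hζ' : IsPrimitiveRoot (hζ.isUnit hlp.ne_zero).unit l := hζ.isUnit_unit hlp.ne_zero
  set u := (hζ.isUnit hlp.ne_zero).unit
  have : l ≤ hfin.toFinset.card := by
    have h := Finset.card_le_card_of_injOn (fun i : ℕ => u ^ i) (s := Finset.range l) (t := hfin.toFinset)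
      (fun i _ => hfin.mem_toFinset.mpr ⟨l, hlp.pos, by
        rw [← pow_mul, mul_comm, pow_mul, hζ'.pow_eq_one, one_pow]⟩)
      (fun i hi j hj h => hζ'.pow_inj (Finset.mem_range.mp hi) (Finset.mem_range.mp hj) h)
    simpa using h
  omega

/-- An element of the coordinate ring killed by all finite order characters is zero. -/
theorem eq_zero_of_torsion [IsAlgClosed K] (z : Coord K r)
    (h : ∀ x : Fin r → Kˣ, (∃ n, 0 < n ∧ x ^ n = 1) → charAlg x z = 0) : z = 0 := by
  classical
  let s := z.coeff.support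
  let N : Fin r → ℕ := fun i => s.sup fun m => (m.toAdd i).natAbs
  have hN : ∀ m ∈ s, ∀ i, 0 ≤ m.toAdd i + (N i : ℤ) := fun m hm i => by
    have : (m.toAdd i).natAbs ≤ N i := Finset.le_sup (f := fun m : Multiplicative (Fin r → ℤ) => (m.toAdd i).natAbs) hm
    omega
  let e : Multiplicative (Fin r → ℤ) → (Fin r →₀ ℕ) := fun m =>
    Finsupp.equivFunOnFinite.symm fun i => (m.toAdd i + (N i : ℤ)).toNat
  have he : ∀ m ∈ s, ∀ i, ((e m i : ℕ) : ℤ) = m.toAdd i + (N i : ℤ) := fun m hm i => by
    simp [e, Int.toNat_of_nonneg (hN m hm i)]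
  let P : MvPolynomial (Fin r) K := ∑ m ∈ s, MvPolynomial.monomial (e m) (z.coeff m)
  let S : Set K := Units.val '' {u : Kˣ | ∃ n, 0 < n ∧ u ^ n = 1}
  have hS : S.Infinite := infinite_torsion.image Units.val_injective.injOn
  have hP : P = 0 := by
    refine MvPolynomial.funext_set (fun _ => S) (fun _ => hS) fun y hy => ?_
    choose u hu huy using fun i => hy i (Set.mem_univ i)
    choose n hn hun using hu
    have hx : ∃ M, 0 < M ∧ u ^ M = 1 := by
      refine ⟨∏ i, n i, Finset.prod_pos fun i _ => hn i, funext fun i => ?_⟩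
      obtain ⟨c, hc⟩ : n i ∣ ∏ j, n j := Finset.dvd_prod_of_mem _ (Finset.mem_univ i)
      rw [Pi.pow_apply, hc, pow_mul, hun i, one_pow, Pi.one_apply]
    have h0 := h u hx
    rw [charAlg, MonoidAlgebra.lift_apply, Finsupp.sum] at h0
    rw [map_zero, map_sum]
    have : ∀ m ∈ s, MvPolynomial.eval y (MvPolynomial.monomial (e m) (z.coeff m)) =
        ((∏ i, u i ^ (N i : ℤ) : Kˣ) : K) * (z.coeff m • charHom u m) := fun m hm => by
      rw [MvPolynomial.eval_monomial, Finsupp.prod_fintype _ _ (fun i => pow_zero _), smul_eq_mul,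
        mul_comm (((∏ i, u i ^ (N i : ℤ)) : Kˣ) : K), mul_assoc]
      congr 1
      show ∏ i, y i ^ e m i = ((∏ i, u i ^ m.toAdd i : Kˣ) : K) * _
      rw [Units.coe_prod, Units.coe_prod, ← Finset.prod_mul_distrib]
      refine Finset.prod_congr rfl fun i _ => ?_
      rw [← huy i, ← Units.val_mul, ← zpow_add, ← Units.val_pow_eq_pow_val, ← zpow_natCast, he m hm i]
    rw [Finset.sum_congr rfl this, ← Finset.mul_sum, h0, mul_zero]
  ext m₀
  by_contra hm
  have hm₀ : m₀ ∈ s := Finsupp.mem_support_iff.mpr (by simpa using hm)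
  have := congrArg (MvPolynomial.coeff (e m₀)) hP
  rw [MvPolynomial.coeff_zero, MvPolynomial.coeff_sum, Finset.sum_eq_single m₀] at this
  · rw [MvPolynomial.coeff_monomial, if_pos rfl] at this
    exact hm (by simpa using this)
  · intro m hms hne
    rw [MvPolynomial.coeff_monomial, if_neg]
    intro hee
    refine hne (Multiplicative.toAdd.injective (funext fun i => ?_))
    have h1 := he m hms i
    rw [hee, he m₀ hm₀ i] at h1
    omega
  · intro h; exact absurd hm₀ h

/-- Pairs of separating families separate a tensor product. -/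
theorem eq_zero_of_pairs {B C : Type u} [CommRing B] [Algebra K B] [CommRing C] [Algebra K C]
    {ι κ : Type*} (χ : ι → B →ₐ[K] K) (ψ : κ → C →ₐ[K] K)
    (hχ : ∀ b, (∀ i, χ i b = 0) → b = 0) (hψ : ∀ c, (∀ j, ψ j c = 0) → c = 0) (z : B ⊗[K] C)
    (h : ∀ i j, Algebra.TensorProduct.productMap (χ i) (ψ j) z = 0) : z = 0 := by
  classical
  let b := Module.Free.chooseBasis K C
  obtain ⟨c, rfl⟩ := TensorProduct.eq_repr_basis_right b z
  suffices hc : ∀ l, c l = 0 by
    rw [Finsupp.sum]
    exact Finset.sum_eq_zero fun l _ => by rw [hc l, TensorProduct.zero_tmul]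
  have key : ∀ i, ∀ l, χ i (c l) = 0 := by
    intro i
    have hz : ∀ j, ψ j (c.sum fun l v => χ i v • b l) = 0 := fun j => by
      have := h i j
      rw [Finsupp.sum, map_sum] at this
      rw [Finsupp.sum, map_sum, ← this]
      refine Finset.sum_congr rfl fun l _ => ?_
      rw [map_smul, smul_eq_mul, Algebra.TensorProduct.productMap_apply_tmul]
    have h0 := hψ _ hz
    intro l
    by_cases hl : l ∈ c.support
    · exact linearIndependent_iff'.mp b.linearIndependent c.support (fun l => χ i (c l)) h0 l hl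
    · rw [Finsupp.notMem_support_iff.mp hl, map_zero]
  exact fun l => hχ _ fun i => key i l

end Groth.Agent.TorusBilin
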